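import Mathlib
import Groth.Prelude.Def_Conn
import Groth.Agent.Conn53.Along

set_option linter.unusedSectionVars false

universe v u
open TensorProduct

namespace Groth.Agent.PCurv53

section
variable {A : Type v} {B : Type u} [CommRing A] [CommRing B] [Algebra A B]
variable {X : Type u} [AddCommGroup X] [Module B X]

/-- Leibniz rule for iterates. -/
theorem iterate_smul (θ : Derivation A B B) (D : X →+ X)
    (hD : ∀ (b : B) (x : X), D (b • x) = b • D x + θ b • x) (n : ℕ) (a : B) (x : X) :
    (⇑D)^[n] (a • x) =
      ∑ k ∈ Finset.range (n + 1), n.choose k • ((⇑θ)^[n - k] a • (⇑D)^[k] x) := by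
  induction n with
  | zero => simp
  | succ n ih =>
    rw [Function.iterate_succ_apply', ih, map_sum,
      Finset.sum_choose_succ_nsmul (fun i j => (⇑θ)^[j] a • (⇑D)^[i] x) n, ← Finset.sum_add_distrib]
    refine Finset.sum_congr rfl fun k hk => ?_
    rw [Finset.mem_range] at hk
    rw [map_nsmul, hD, nsmul_add, Function.iterate_succ_apply' (⇑D) k x,
      show n + 1 - k = (n - k) + 1 by omega, Function.iterate_succ_apply' (⇑θ) (n - k) a]
    abel

/-- Coefficients of `(f D)^[n]` in terms of the iterates of `D`. -/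
def coef (θ : Derivation A B B) (f : B) : ℕ → ℕ → B
  | 0, i => if i = 0 then 1 else 0
  | n + 1, i => f * θ (coef θ f n i) + (match i with | 0 => 0 | j + 1 => f * coef θ f n j)

theorem coef_eq_zero (θ : Derivation A B B) (f : B) : ∀ n i, n < i → coef θ f n i = 0 := by
  intro n
  induction n with
  | zero => intro i hi; rw [coef, if_neg (by omega)]
  | succ n ih =>
    intro i hi
    obtain ⟨j, rfl⟩ : ∃ j, i = j + 1 := ⟨i - 1, by omega⟩
    simp [coef, ih (j + 1) (by omega), ih j (by omega)]

theorem coef_zero (θ : Derivation A B B) (f : B) : ∀ n, coef θ f (n + 1) 0 = 0 := by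
  intro n
  induction n with
  | zero => simp [coef]
  | succ n ih => rw [coef, ih]; simp

theorem iterate_smul_op (θ : Derivation A B B) (D : X →+ X)
    (hD : ∀ (b : B) (x : X), D (b • x) = b • D x + θ b • x) (f : B) (n : ℕ) (x : X) :
    (fun y => f • D y)^[n] x = ∑ i ∈ Finset.range (n + 1), coef θ f n i • (⇑D)^[i] x := by
  induction n with
  | zero => simp [coef]
  | succ n ih =>
    rw [Function.iterate_succ_apply', ih]
    simp only [map_sum, hD, Finset.smul_sum, smul_add, smul_smul, Finset.sum_add_distrib]
    rw [Finset.sum_range_succ' (fun i => coef θ f (n + 1) i • (⇑D)^[i] x)]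
    simp only [coef, add_smul, Finset.sum_add_distrib, add_zero, Function.iterate_succ_apply']
    have h : ∑ i ∈ Finset.range (n + 1), (f * θ (coef θ f n i)) • (⇑D)^[i] x =
        (∑ i ∈ Finset.range (n + 1), (f * θ (coef θ f n (i + 1))) • D ((⇑D)^[i] x))
          + (f * θ (coef θ f n 0)) • (⇑D)^[0] x := by
      rw [Finset.sum_range_succ' _ n, Finset.sum_range_succ _ n, coef_eq_zero θ f n (n + 1) (by omega)]
      simp [Function.iterate_succ_apply']
    rw [h]
    abel

/-- In characteristic `p` the iterates below `p` of a derivation are independent over the ring,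
once the values of the derivation generate the unit ideal. -/
theorem indep (θ : Derivation A B B) (p : ℕ) (hp : p.Prime) [CharP B p]
    (hgen : ∀ c : B, (∀ a : B, c * θ a = 0) → c = 0) :
    ∀ n, n < p → ∀ c : ℕ → B,
      (∀ x : B, ∑ i ∈ Finset.range (n + 1), c i * (⇑θ)^[i] x = 0) → ∀ i, i ≤ n → c i = 0 := by
  intro n
  induction n with
  | zero =>
    intro _ c h i hi
    obtain rfl : i = 0 := by omega
    simpa using h 1
  | succ n ih =>
    intro hn c h i hi
    have hD : ∀ (b x : B), θ.toLinearMap.toAddMonoidHom (b • x) =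
        b • θ.toLinearMap.toAddMonoidHom x + θ b • x := by
      intro b x
      simp [mul_comm x]
    have htop : c (n + 1) = 0 := by
      refine hgen _ fun a => ?_
      let e : ℕ → B := fun k => ∑ i ∈ Finset.range (n + 2),
        if k < i then c i * ((i.choose k : B) * (⇑θ)^[i - k] a) else 0
      have h2 : ∀ x : B, ∑ k ∈ Finset.range (n + 1), e k * (⇑θ)^[k] x = 0 := by
        intro x
        have h3 := congrArg₂ (· - ·) (h (a * x)) (congrArg (a * ·) (h x))
        simp only [mul_zero, sub_zero, Finset.mul_sum, ← Finset.sum_sub_distrib] at h3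
        refine Eq.trans ?_ h3
        simp only [e, Finset.sum_mul]
        rw [Finset.sum_comm]
        refine Finset.sum_congr rfl fun i hi => ?_
        rw [Finset.mem_range] at hi
        have hl : (⇑θ)^[i] (a * x) =
            ∑ k ∈ Finset.range (i + 1), i.choose k • ((⇑θ)^[i - k] a • (⇑θ)^[k] x) :=
          iterate_smul θ θ.toLinearMap.toAddMonoidHom hD i a x
        conv_rhs => rw [hl, Finset.sum_range_succ]
        simp only [Nat.choose_self, one_smul, Nat.sub_self, Function.iterate_zero_apply,
          smul_eq_mul, nsmul_eq_mul, mul_add, Finset.mul_sum]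
        rw [mul_left_comm (c i) a, add_sub_cancel_right]
        rw [← Finset.sum_subset (Finset.range_mono (show i ≤ n + 1 by omega))]
        · refine Finset.sum_congr rfl fun k hk => ?_
          rw [Finset.mem_range] at hk
          rw [if_pos hk]; ring
        · intro k _ hk
          rw [Finset.mem_range] at hk
          rw [if_neg hk, zero_mul]
      have h4 := ih (by omega) e h2 n le_rfl
      simp only [e] at h4
      rw [Finset.sum_eq_single (n + 1)] at h4
      · rw [if_pos (by omega), Nat.choose_succ_self_right, show n + 1 - n = 1 by omega,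
          Function.iterate_one] at h4
        have hu : IsUnit ((n + 1 : ℕ) : B) :=
          (CharP.isUnit_natCast_iff hp).2 (fun hd => by have := Nat.le_of_dvd (by omega) hd; omega)
        apply hu.mul_right_injective
        simp only [mul_zero]
        rw [← h4]; push_cast; ring
      · intro i hi hne
        rw [Finset.mem_range] at hi
        rw [if_neg (by omega)]
      · simp
    rcases eq_or_lt_of_le hi with rfl | hlt
    · exact htop
    · refine ih (by omega) c (fun x => ?_) i (by omega)
      have := h x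
      rwa [Finset.sum_range_succ, htop, zero_mul, add_zero] at this

end

section
variable {A : Type v} {B M : Type u} [CommRing A] [CommRing B] [Algebra A B]
variable [AddCommGroup M] [Module B M] [Module A M] [IsScalarTower A B M]
variable (bΩ : Module.Basis (Fin 1) B (KaehlerDifferential A B))

theorem alongDer_smul {nabla : M →ₗ[A] M ⊗[B] KaehlerDifferential A B}
    (hc : Conn.IsConn (KaehlerDifferential.D A B) nabla) (θ : Derivation A B B) (b : B) (m : M) :
    Conn.alongDer nabla θ (b • m) = b • Conn.alongDer nabla θ m + θ b • m := by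
  show Conn.along nabla θ.liftKaehlerDifferential (b • m) = _
  rw [Conn53.along_smul hc, Derivation.liftKaehlerDifferential_comp_D]
  rfl

variable (θ₀ : Derivation A B B) (hθ₀ : θ₀.liftKaehlerDifferential (bΩ 0) = 1)
include hθ₀

theorem lift_eq (θ : Derivation A B B) :
    θ.liftKaehlerDifferential = θ.liftKaehlerDifferential (bΩ 0) • θ₀.liftKaehlerDifferential := by
  refine bΩ.ext fun i => ?_
  rw [Subsingleton.elim i 0, LinearMap.smul_apply, hθ₀, smul_eq_mul, mul_one]

theorem der_eq (θ : Derivation A B B) (b : B) :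
    θ b = θ.liftKaehlerDifferential (bΩ 0) * θ₀ b := by
  have := LinearMap.congr_fun (lift_eq bΩ θ₀ hθ₀ θ) (KaehlerDifferential.D A B b)
  simpa [Derivation.liftKaehlerDifferential_comp_D] using this

theorem alongDer_eq (nabla : M →ₗ[A] M ⊗[B] KaehlerDifferential A B) (θ : Derivation A B B)
    (m : M) :
    Conn.alongDer nabla θ m = θ.liftKaehlerDifferential (bΩ 0) • Conn.alongDer nabla θ₀ m := by
  show Conn53.ctr θ.liftKaehlerDifferential (nabla m) =
    _ • Conn53.ctr θ₀.liftKaehlerDifferential (nabla m)
  rw [lift_eq bΩ θ₀ hθ₀ θ]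
  generalize nabla m = z
  induction z using TensorProduct.induction_on with
  | zero => simp
  | tmul x w => simp [Conn53.ctr_tmul, smul_smul, hθ₀]
  | add a b ha hb => simp [ha, hb]

theorem values_generate (c : B) (hc : ∀ a : B, c * θ₀ a = 0) : c = 0 := by
  have h1 : (c • θ₀.liftKaehlerDifferential) = 0 := by
    refine Derivation.liftKaehlerDifferential_unique _ _ ?_
    ext a
    simpa [Derivation.liftKaehlerDifferential_comp_D] using hc a
  have := LinearMap.congr_fun h1 (bΩ 0)
  simpa [hθ₀] using this

theorem pCurv_iff (p : ℕ) [Fact p.Prime] [CharP B p]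
    (nabla : M →ₗ[A] M ⊗[B] KaehlerDifferential A B)
    (hc : Conn.IsConn (KaehlerDifferential.D A B) nabla) :
    (∀ θ θp : Derivation A B B, Conn.IsIterPow θ p θp → Conn.pCurv p nabla θ θp = 0) ↔
      (∀ θp : Derivation A B B, Conn.IsIterPow θ₀ p θp → Conn.pCurv p nabla θ₀ θp = 0) := by
  refine ⟨fun h => h θ₀, fun h θ θp hθp => ?_⟩
  have hp : p.Prime := Fact.out
  have hθadd : ∀ (b x : B), θ₀.toLinearMap.toAddMonoidHom (b • x) =
      b • θ₀.toLinearMap.toAddMonoidHom x + θ₀ b • x := by
    intro b x
    simp [mul_comm x]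
  -- the iterate of θ₀ is a derivation
  let θp0 : Derivation A B B :=
    Derivation.mk' ((θ₀ : B →ₗ[A] B) ^ p) (by
      intro a b
      simp only [Module.End.pow_apply]
      have hl : (⇑θ₀)^[p] (a * b) =
          ∑ k ∈ Finset.range (p + 1), p.choose k • ((⇑θ₀)^[p - k] a • (⇑θ₀)^[k] b) :=
        iterate_smul θ₀ θ₀.toLinearMap.toAddMonoidHom hθadd p a b
      refine hl.trans ?_
      rw [Finset.sum_range_succ]
      have hp0 : 0 < p := hp.pos
      rw [Finset.sum_eq_single 0]
      · simp [smul_eq_mul, mul_comm b, add_comm]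
      · intro k hk hk0
        rw [Finset.mem_range] at hk
        have : (p.choose k : B) = 0 := (CharP.cast_eq_zero_iff B p _).2 (hp.dvd_choose_self hk0 hk)
        rw [nsmul_eq_mul, this, zero_mul]
      · intro h'; exact absurd (Finset.mem_range.2 hp.pos) h')
  have hθp0 : Conn.IsIterPow θ₀ p θp0 := fun b => by
    show ((θ₀ : B →ₗ[A] B) ^ p) b = _
    rw [Module.End.pow_apply]; rfl
  set f := θ.liftKaehlerDifferential (bΩ 0)
  set h1 := θp.liftKaehlerDifferential (bΩ 0)
  set h0 := θp0.liftKaehlerDifferential (bΩ 0)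
  let c : ℕ → B := fun i => coef θ₀ f p i + if i = 1 then coef θ₀ f p p * h0 - h1 else 0
  have key : ∀ (X : Type u) [AddCommGroup X] [Module B X] (D : X →+ X),
      (∀ (b : B) (x : X), D (b • x) = b • D x + θ₀ b • x) → ∀ x : X,
      (⇑D)^[p] x = h0 • D x →
      ∑ i ∈ Finset.range p, c i • (⇑D)^[i] x = (fun y => f • D y)^[p] x - h1 • D x := by
    intro X _ _ D hD x hx
    rw [iterate_smul_op θ₀ D hD, Finset.sum_range_succ, hx]
    simp only [c, add_smul, Finset.sum_add_distrib, ite_smul, zero_smul, Finset.sum_ite_eq',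
      Finset.mem_range, hp.one_lt, ↓reduceIte, Function.iterate_one, sub_smul, smul_smul]
    abel
  have hc0 : ∀ i, i < p → c i = 0 := by
    intro i hi
    refine indep θ₀ p hp (values_generate bΩ θ₀ hθ₀) (p - 1) (by omega) c (fun x => ?_) i (by omega)
    rw [show p - 1 + 1 = p by omega]
    have := key B θ₀.toLinearMap.toAddMonoidHom hθadd x
      ((hθp0 x).symm.trans (der_eq bΩ θ₀ hθ₀ θp0 x))
    refine this.trans ?_
    have hf : (fun y => f • θ₀.toLinearMap.toAddMonoidHom y) = ⇑θ := by
      funext y; exact (der_eq bΩ θ₀ hθ₀ θ y).symm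
    rw [hf, ← hθp x, der_eq bΩ θ₀ hθ₀ θp x]
    exact sub_self _
  ext m
  have hm := key M (Conn.alongDer nabla θ₀).toAddMonoidHom
    (fun b x => alongDer_smul hc θ₀ b x) m (by
      have h' := LinearMap.congr_fun (h θp0 hθp0) m
      simp only [Conn.pCurv, LinearMap.sub_apply, LinearMap.zero_apply, sub_eq_zero,
        Module.End.pow_apply] at h'
      exact h'.trans (alongDer_eq bΩ θ₀ hθ₀ nabla θp0 m))
  rw [Finset.sum_eq_zero (fun i hi => by rw [hc0 i (Finset.mem_range.1 hi), zero_smul])] at hm
  have hf : (fun y => f • (Conn.alongDer nabla θ₀).toAddMonoidHom y) = ⇑(Conn.alongDer nabla θ) := by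
    funext y; exact (alongDer_eq bΩ θ₀ hθ₀ nabla θ y).symm
  simp only [Conn.pCurv, LinearMap.sub_apply, LinearMap.zero_apply, Module.End.pow_apply]
  rw [alongDer_eq bΩ θ₀ hθ₀ nabla θp m, ← hf]
  exact hm.symm

end
end Groth.Agent.PCurv53
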